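import Cfsg.Agent.Lib.KnownSimple.MultM.U33G.ValC0
import Cfsg.Agent.Lib.KnownSimple.MultC.ValH

/-!
# The relations between the relators
-/

set_option autoImplicit false

namespace Cfsg.Agent.Lib.KnownSimple.MultM.U33G

open Cfsg Cfsg.Spor Cfsg.Agent.Lib.Compute Cfsg.Agent.Lib.KnownSimple.PE Cfsg.Agent.Lib.KnownSimple.Leech
open Cfsg.Agent.Lib.KnownSimple Cfsg.Agent.Lib.KnownSimple.AutRigid Cfsg.Agent.Lib.KnownSimple.Pres
open Cfsg.Agent.Lib.KnownSimple.MultC


theorem hEF : ∀ e, e < n * d → chkEdgeG 4294967296 mskM cKK C.τ d n RL 20 2 16 (lookP parT) (lookP genT) (lg 0 peL) tv e = true := by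
  have h : allBelow fe 1152 = true :=
    allBelow_of_pad (m := 2) (s := 1024) (by norm_num) (fun c hc => by
    interval_cases c
    · exact ve0
    · exact ve1
  )
  intro e he
  exact (allBelow_iff _ _).1 h e he
set_option maxHeartbeats 0 in
set_option maxRecDepth 100000 in
theorem hLn : allBelow (fun q => Nat.blt (((lg [] RL q).length + 1) * 65536) 4294967296) 20 = true := by decide +kernel
theorem hE : ∀ e, e < n * d → chkEdge C.τ d n RL 20 2 16 (lookP parT) (lookP genT) (lg 0 peL) (toV 4294967296 18 tv) e = true :=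
  chkEdge_of_G (by norm_num) (good_of_mask (W := 32) (b := 16) (by norm_num) (by norm_num) (by norm_num) (by decide +kernel) (by decide +kernel))
    (fun l i hl hi => C.hlt l i hl hi) (fun q _ => words_lg hokR q) (len_of_chk hLn) hEF
set_option maxRecDepth 100000 in
/-- The relations. -/
def rowsF : List (ℕ × ℕ × List ℤ) := [(4,18,[.ofNat 3,.ofNat 0,.ofNat 0,.ofNat 0,.ofNat 0,.ofNat 5,.ofNat 0,.ofNat 0,.negSucc 0,.ofNat 0,.ofNat 0,.negSucc 1,.ofNat 0,.ofNat 0,.ofNat 0,.ofNat 0,.ofNat 0,.ofNat 0]),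
  (10,11,[.negSucc 0,.ofNat 1,.ofNat 0,.negSucc 0,.ofNat 1,.ofNat 3,.ofNat 1,.ofNat 0,.ofNat 0,.ofNat 1,.ofNat 0,.negSucc 1,.negSucc 0,.ofNat 1,.ofNat 1,.negSucc 0,.ofNat 1,.negSucc 0]),
  (10,18,[.ofNat 0,.ofNat 0,.ofNat 0,.ofNat 0,.ofNat 0,.ofNat 1,.ofNat 0,.ofNat 0,.ofNat 0,.ofNat 0,.ofNat 0,.negSucc 0,.ofNat 0,.ofNat 0,.ofNat 0,.ofNat 0,.ofNat 0,.ofNat 0]),
  (40,5,[.ofNat 0,.ofNat 0,.negSucc 1,.ofNat 0,.negSucc 0,.ofNat 2,.ofNat 0,.ofNat 2,.ofNat 0,.ofNat 0,.ofNat 0,.negSucc 1,.ofNat 0,.ofNat 0,.ofNat 0,.ofNat 0,.ofNat 0,.ofNat 0]),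
  (47,14,[.ofNat 0,.ofNat 0,.negSucc 2,.negSucc 1,.ofNat 1,.ofNat 0,.ofNat 0,.ofNat 0,.ofNat 2,.ofNat 1,.ofNat 0,.negSucc 2,.ofNat 0,.ofNat 0,.ofNat 0,.ofNat 0,.ofNat 1,.ofNat 0]),
  (50,10,[.ofNat 0,.ofNat 0,.negSucc 0,.negSucc 0,.ofNat 4,.negSucc 6,.ofNat 0,.ofNat 0,.ofNat 2,.ofNat 0,.ofNat 0,.ofNat 0,.negSucc 0,.ofNat 0,.ofNat 0,.ofNat 2,.ofNat 0,.ofNat 0]),
  (74,10,[.ofNat 0,.ofNat 3,.negSucc 1,.negSucc 8,.negSucc 2,.ofNat 0,.ofNat 1,.negSucc 1,.ofNat 0,.ofNat 1,.ofNat 0,.ofNat 0,.ofNat 0,.ofNat 1,.ofNat 2,.ofNat 0,.ofNat 0,.ofNat 0]),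
  (75,17,[.ofNat 0,.ofNat 0,.negSucc 0,.ofNat 0,.negSucc 1,.ofNat 2,.ofNat 0,.ofNat 0,.ofNat 0,.ofNat 0,.ofNat 0,.ofNat 0,.ofNat 1,.ofNat 0,.ofNat 0,.negSucc 0,.ofNat 0,.ofNat 0]),
  (85,17,[.ofNat 0,.ofNat 0,.ofNat 3,.ofNat 2,.ofNat 0,.ofNat 2,.negSucc 0,.negSucc 0,.ofNat 0,.ofNat 0,.ofNat 0,.ofNat 0,.ofNat 1,.ofNat 0,.ofNat 0,.negSucc 0,.ofNat 0,.ofNat 0]),
  (105,19,[.ofNat 0,.ofNat 0,.ofNat 0,.ofNat 0,.ofNat 0,.ofNat 1,.ofNat 1,.ofNat 1,.negSucc 0,.ofNat 0,.ofNat 0,.ofNat 0,.negSucc 0,.ofNat 0,.ofNat 0,.ofNat 0,.ofNat 0,.ofNat 0]),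
  (126,10,[.ofNat 0,.ofNat 0,.ofNat 0,.ofNat 0,.ofNat 0,.negSucc 1,.ofNat 1,.ofNat 0,.ofNat 0,.ofNat 0,.ofNat 0,.ofNat 2,.ofNat 0,.ofNat 0,.ofNat 0,.ofNat 0,.ofNat 0,.ofNat 0]),
  (138,19,[.ofNat 0,.ofNat 0,.ofNat 0,.ofNat 0,.ofNat 1,.ofNat 0,.ofNat 0,.ofNat 0,.ofNat 0,.ofNat 0,.ofNat 0,.negSucc 0,.ofNat 0,.ofNat 0,.ofNat 0,.ofNat 0,.ofNat 0,.ofNat 0]),
  (147,10,[.ofNat 0,.ofNat 0,.ofNat 1,.negSucc 1,.negSucc 0,.ofNat 0,.ofNat 0,.negSucc 0,.ofNat 0,.ofNat 0,.ofNat 0,.ofNat 0,.ofNat 0,.ofNat 2,.ofNat 0,.ofNat 0,.ofNat 0,.ofNat 0]),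
  (151,10,[.ofNat 0,.ofNat 0,.negSucc 0,.ofNat 0,.ofNat 0,.ofNat 0,.ofNat 1,.ofNat 1,.ofNat 0,.ofNat 0,.ofNat 0,.ofNat 0,.ofNat 0,.ofNat 0,.ofNat 0,.ofNat 0,.ofNat 0,.ofNat 0]),
  (171,11,[.ofNat 0,.ofNat 0,.ofNat 5,.ofNat 5,.negSucc 0,.negSucc 0,.negSucc 1,.ofNat 0,.negSucc 0,.negSucc 0,.ofNat 0,.ofNat 3,.ofNat 1,.ofNat 0,.ofNat 0,.ofNat 0,.negSucc 0,.ofNat 1]),
  (171,16,[.ofNat 0,.ofNat 0,.ofNat 7,.ofNat 7,.ofNat 3,.ofNat 0,.negSucc 0,.ofNat 0,.ofNat 0,.ofNat 0,.ofNat 0,.ofNat 0,.ofNat 0,.ofNat 0,.negSucc 1,.ofNat 0,.ofNat 0,.ofNat 0]),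
  (186,6,[.ofNat 0,.negSucc 2,.ofNat 0,.ofNat 2,.ofNat 2,.ofNat 1,.ofNat 0,.negSucc 0,.ofNat 0,.negSucc 0,.negSucc 0,.ofNat 2,.ofNat 2,.ofNat 0,.negSucc 0,.ofNat 0,.ofNat 0,.ofNat 0]),
  (197,10,[.ofNat 0,.ofNat 0,.ofNat 0,.negSucc 2,.ofNat 4,.negSucc 3,.ofNat 1,.ofNat 0,.ofNat 0,.ofNat 0,.ofNat 0,.ofNat 0,.negSucc 0,.ofNat 0,.ofNat 0,.ofNat 2,.ofNat 0,.ofNat 0]),
  (257,18,[.ofNat 0,.ofNat 0,.ofNat 0,.negSucc 3,.ofNat 2,.ofNat 0,.ofNat 0,.ofNat 1,.negSucc 1,.ofNat 2,.negSucc 1,.negSucc 1,.ofNat 0,.negSucc 3,.ofNat 1,.ofNat 3,.ofNat 2,.negSucc 0]),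
  (275,13,[.ofNat 0,.ofNat 0,.ofNat 4,.ofNat 6,.ofNat 3,.ofNat 0,.negSucc 0,.ofNat 1,.ofNat 1,.ofNat 0,.ofNat 2,.negSucc 1,.ofNat 0,.negSucc 1,.ofNat 0,.negSucc 0,.ofNat 1,.ofNat 0])]
set_option maxRecDepth 100000 in
/-- The relations, packed. -/
def rowsP : List (ℕ × ℕ × ℕ × ℕ) := [(4,18,7307508186654514591018424163581415098279662714883,18347988927920572092886567162532487615609836108769819974909398622948652993373519028599606008888918622076928),
  (10,11,13407807929942597100300863722670683346038993269812088230933592190605651012430302954761539060118702331514558840767971570785068720975466972234497631631441920,57586096570152913703096641448696560024913720344097101215653011940236691795647231880676588955746406558220588301566705861223485330251855882862364548324387609678708737),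
  (10,18,1461501637330902918203684832716283019655932542976,9173994463960286046443283581208347763186259956673124494950355357547691504353939232280074212440502746218496),
  (40,5,53919893334301279592257033448701067183681658510513711001519085584384,18347988927920572092886567162416695526372519913346248989900710715095723291074799403023648692976584679751680),
  (47,14,13407807929942597099574024998205846127479365820592393377723561443722261353310188347622504312805897390500149690152990278822892548855382107986069440409108480,27521983391880858139329850743625043289558779870019373484851066072643074513061976153165306506228916455211008),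
  (50,10,6243497100631984462763194459586332611497196285329942301718313919250975061818005872631459348097001318135361763341612210672828720025022123944706048,39402006196394479212279040100143613805079739270465446667948293404255952282958526931841771276876462333025886771609600),
  (74,10,1453677448760444109108951257107699387563672107571205042638246177140304050065196827150713648790336752500955827776824967997932193278066688,53919893334301279589334030175060108448750157698136541310991839789056),
  (75,17,39402006196394479212279040100143613805079739270465446667948293404248644774771872417250673624550348206845939855392768,3121748550315992231381597229793166305748598142664971150859156959625371738819765620120306103063491971159827611686140464772374920875247222552264704),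
  (85,17,39402006196394479212279040100143613805079739270465446667948293404248644774771872417250832080875432075753348071948288,3121748550315992231381597229793166305748598142664971150859156959625371738819792580066979530805022024855677786541503467706286618607213852951052288),
  (105,19,26959946673427741531515197488186323015048495671359210945223577305088,39402006196394479212279040100143613805195531359702762863371864389254409679350480596079906818924373224814541119946752),
  (126,10,18347988927920572092886567162416695526372519913352526091636097395859218798131086130976250780325469526949888,2923003274661805836407369665432566039311865085952),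
  (138,19,340282366920938463463374607431768211456,9173994463960286046443283581208347763186259956673124494950355357547691504353939232280074212440502746218496),
  (147,10,338460656020607282663380637712778772392143197677711984273740183180495765112991409062496875745134225841966719003556033161330688,26959946667150639794667015087359913040716539211032475763722466361344),
  (151,10,26959946673427741530053695850855420096844810838642927925567644762112,18446744073709551616),
  (171,11,57586096570152913699974892898380567793532123114303934909913587792035680930834518204632425564689827198056955322998164245421206090634803516111846796148610569842196480,13407807929942597099574024998205846127479365820592393377723561443722261353310072555533266996610486373718613237108302011319991527309007571395970111281037312),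
  (171,16,1020847101317412528119101393966079148032,1453677448591213781098647615776009068707282721374636120562980398361278576226802123754117488108290966910948250878948458222513667291742208),
  (186,6,78804012411136947352478652293173794772576174067303413249242835798393615759727815699188614992414651267403968029917184,726838724295606890549323807888004534355777347723736293600295007528991182422814599328442826649594974516698842453362518553051213586235392),
  (197,10,6243497100631984462763194459586332611497196285329942301718313919250743477639531240240618483228719329000419059161704137211165907212450761719939072,39402006196394479212279040100143613805079739270465446667948293404251567778046534223087318678703323565898032352329728),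
  (257,18,26815615869250439850822865414852090834887554366318585717795677700709311645777518942528022469251083880216726259882898856262778562891639031179987789457391616,57586096570152913699974892898380567794209044426305747469034780593789271123544059522766583073794469594413377986339681667772755563194279403660092797178991146350673920),
  (275,13,13407807929942597099574024998205846127479365820592393377727833417793605850238452812303477678538199558359548518649321444531838838156335398699792741326389248,3121748550315992231720057885813773588430326769305670495344186724465500418619878323214154394268119477618183025664671934868390927016425714285019136)]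
set_option maxHeartbeats 0 in
set_option maxRecDepth 100000 in
theorem hFm : (rowsP.map fun x => (x.1, x.2.1, decV 4294967296 18 x.2.2.1 x.2.2.2)) = rowsF := by decide +kernel
set_option maxHeartbeats 0 in
set_option maxRecDepth 100000 in
theorem hFb : (rowsP.all fun x => bcond (maskOK mskM cKK x.2.2.1) (maskOK mskM cKK x.2.2.2) false) = true := by decide +kernel
set_option maxHeartbeats 0 in
set_option maxRecDepth 100000 in
theorem hFc : (rowsP.all (chkRowG τ d n RL 20 (n * d) 865 tv)) = true := by decide +kernel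
theorem hF : ∀ x ∈ rowsF, chkRow C.τ d n RL 20 (n * d) 865 (toV 4294967296 18 tv) x = true :=
  chkRow_of_G (by norm_num) (good_of_mask (W := 32) (b := 16) (by norm_num) (by norm_num) (by norm_num) (by decide +kernel) (by decide +kernel))
    (fun l i hl hi => C.hlt l i hl hi) (fun q _ => words_lg hokR q) (len_of_chk hLn) hEF rowsP rowsF hFm hFb hFc
set_option maxRecDepth 100000 in
/-- A combination. -/
def cb0 : List (ℕ × ℤ) := [(2,.ofNat 3),(3,.negSucc 2),(5,.ofNat 1),(7,.ofNat 1),(8,.negSucc 0),(9,.ofNat 2),(10,.negSucc 1),(11,.negSucc 0),(17,.negSucc 0)]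
set_option maxHeartbeats 0 in
set_option maxRecDepth 100000 in
theorem hcb0 : chkComb 2 16 rowsF 0 0 (0) cb0 = true := by decide +kernel
set_option maxRecDepth 100000 in
/-- A combination. -/
def cb1 : List (ℕ × ℤ) := [(2,.negSucc 0),(3,.ofNat 1),(5,.negSucc 0),(7,.negSucc 1),(9,.negSucc 1),(10,.ofNat 1),(11,.ofNat 1),(13,.ofNat 1)]
set_option maxHeartbeats 0 in
set_option maxRecDepth 100000 in
theorem hcb1 : chkComb 2 16 rowsF 0 1 (0) cb1 = true := by decide +kernel
set_option maxRecDepth 100000 in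
/-- A combination. -/
def cb2 : List (ℕ × ℤ) := [(2,.negSucc 2),(3,.ofNat 2),(5,.negSucc 0),(7,.negSucc 0),(8,.ofNat 1),(9,.negSucc 1),(10,.ofNat 1),(11,.ofNat 1),(13,.ofNat 1),(17,.ofNat 1)]
set_option maxHeartbeats 0 in
set_option maxRecDepth 100000 in
theorem hcb2 : chkComb 2 16 rowsF 0 2 (0) cb2 = true := by decide +kernel
set_option maxRecDepth 100000 in
/-- A combination. -/
def cb3 : List (ℕ × ℤ) := [(2,.negSucc 1),(3,.ofNat 2),(5,.negSucc 0),(7,.negSucc 0),(8,.ofNat 1),(9,.negSucc 1),(10,.ofNat 1),(13,.ofNat 1),(17,.ofNat 1)]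
set_option maxHeartbeats 0 in
set_option maxRecDepth 100000 in
theorem hcb3 : chkComb 2 16 rowsF 0 3 (0) cb3 = true := by decide +kernel
set_option maxRecDepth 100000 in
/-- A combination. -/
def cb4 : List (ℕ × ℤ) := [(2,.ofNat 3),(3,.negSucc 2),(5,.negSucc 0),(7,.negSucc 1),(8,.negSucc 1),(9,.negSucc 1),(10,.negSucc 0),(11,.ofNat 1),(13,.ofNat 3),(17,.negSucc 0)]
set_option maxHeartbeats 0 in
set_option maxRecDepth 100000 in
theorem hcb4 : chkComb 2 16 rowsF 0 4 (0) cb4 = true := by decide +kernel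
set_option maxRecDepth 100000 in
/-- A combination. -/
def cb5 : List (ℕ × ℤ) := [(2,.ofNat 1),(3,.negSucc 2),(5,.ofNat 1),(7,.ofNat 1),(8,.negSucc 0),(9,.ofNat 2),(10,.negSucc 2),(11,.negSucc 0),(13,.ofNat 1),(17,.negSucc 0)]
set_option maxHeartbeats 0 in
set_option maxRecDepth 100000 in
theorem hcb5 : chkComb 2 16 rowsF 0 5 (0) cb5 = true := by decide +kernel
set_option maxRecDepth 100000 in
/-- A combination. -/
def cb6 : List (ℕ × ℤ) := [(2,.ofNat 1),(3,.negSucc 0),(9,.negSucc 0),(10,.negSucc 0),(11,.negSucc 0),(13,.ofNat 2)]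
set_option maxHeartbeats 0 in
set_option maxRecDepth 100000 in
theorem hcb6 : chkComb 2 16 rowsF 0 6 (0) cb6 = true := by decide +kernel
set_option maxRecDepth 100000 in
/-- A combination. -/
def cb7 : List (ℕ × ℤ) := [(2,.negSucc 0),(3,.negSucc 0),(4,.ofNat 1),(5,.negSucc 0),(7,.negSucc 2),(8,.negSucc 0),(17,.negSucc 0)]
set_option maxHeartbeats 0 in
set_option maxRecDepth 100000 in
theorem hcb7 : chkComb 2 16 rowsF 0 7 (0) cb7 = true := by decide +kernel
set_option maxRecDepth 100000 in
/-- A combination. -/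
def cb8 : List (ℕ × ℤ) := [(0,.ofNat 16),(1,.ofNat 48),(2,.ofNat 484),(3,.negSucc 427),(4,.ofNat 29),(5,.ofNat 255),(6,.ofNat 35),(7,.ofNat 270),(8,.negSucc 272),(9,.ofNat 505),(10,.negSucc 308),(11,.negSucc 253),(12,.negSucc 12),(13,.negSucc 241),(14,.ofNat 35),(15,.ofNat 27),(16,.ofNat 51),(17,.negSucc 199),(18,.negSucc 12),(19,.ofNat 13)]
set_option maxHeartbeats 0 in
set_option maxRecDepth 100000 in
theorem hcb8 : chkComb 2 16 rowsF 0 8 (0) cb8 = true := by decide +kernel
set_option maxRecDepth 100000 in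
/-- A combination. -/
def cb9 : List (ℕ × ℤ) := [(2,.negSucc 2),(3,.ofNat 2),(5,.negSucc 0),(7,.negSucc 0),(8,.ofNat 1),(9,.negSucc 1),(10,.ofNat 1),(13,.ofNat 1),(17,.ofNat 1)]
set_option maxHeartbeats 0 in
set_option maxRecDepth 100000 in
theorem hcb9 : chkComb 2 16 rowsF 0 9 (0) cb9 = true := by decide +kernel
set_option maxRecDepth 100000 in
/-- A combination. -/
def cb10 : List (ℕ × ℤ) := [(2,.ofNat 1),(3,.negSucc 2),(5,.negSucc 0),(7,.negSucc 1),(8,.negSucc 1),(9,.negSucc 1),(10,.negSucc 1),(11,.ofNat 1),(13,.ofNat 3),(17,.negSucc 0)]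
set_option maxHeartbeats 0 in
set_option maxRecDepth 100000 in
theorem hcb10 : chkComb 2 16 rowsF 0 10 (0) cb10 = true := by decide +kernel
set_option maxRecDepth 100000 in
/-- A combination. -/
def cb11 : List (ℕ × ℤ) := [(0,.ofNat 11),(1,.ofNat 33),(2,.ofNat 336),(3,.negSucc 298),(4,.ofNat 20),(5,.ofNat 178),(6,.ofNat 25),(7,.ofNat 186),(8,.negSucc 189),(9,.ofNat 352),(10,.negSucc 216),(11,.negSucc 175),(12,.negSucc 8),(13,.negSucc 165),(14,.ofNat 24),(15,.ofNat 19),(16,.ofNat 36),(17,.negSucc 140),(18,.negSucc 8),(19,.ofNat 9)]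
set_option maxHeartbeats 0 in
set_option maxRecDepth 100000 in
theorem hcb11 : chkComb 2 16 rowsF 0 11 (0) cb11 = true := by decide +kernel
set_option maxRecDepth 100000 in
/-- A combination. -/
def cb12 : List (ℕ × ℤ) := [(0,.ofNat 5),(1,.ofNat 15),(2,.ofNat 152),(3,.negSucc 135),(4,.ofNat 9),(5,.ofNat 79),(6,.ofNat 11),(7,.ofNat 81),(8,.negSucc 85),(9,.ofNat 156),(10,.negSucc 97),(11,.negSucc 77),(12,.negSucc 3),(13,.negSucc 71),(14,.ofNat 11),(15,.ofNat 8),(16,.ofNat 16),(17,.negSucc 63),(18,.negSucc 3),(19,.ofNat 4)]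
set_option maxHeartbeats 0 in
set_option maxRecDepth 100000 in
theorem hcb12 : chkComb 2 16 rowsF 0 12 (0) cb12 = true := by decide +kernel
set_option maxRecDepth 100000 in
/-- A combination. -/
def cb13 : List (ℕ × ℤ) := [(5,.negSucc 1),(7,.negSucc 3),(8,.negSucc 0),(9,.negSucc 3),(13,.ofNat 3)]
set_option maxHeartbeats 0 in
set_option maxRecDepth 100000 in
theorem hcb13 : chkComb 2 16 rowsF 0 13 (0) cb13 = true := by decide +kernel
set_option maxRecDepth 100000 in
/-- A combination. -/
def cb14 : List (ℕ × ℤ) := [(0,.negSucc 9),(1,.negSucc 29),(2,.negSucc 297),(3,.ofNat 263),(4,.negSucc 17),(5,.negSucc 156),(6,.negSucc 19),(7,.negSucc 169),(8,.ofNat 166),(9,.negSucc 310),(10,.ofNat 188),(11,.ofNat 154),(12,.ofNat 8),(13,.ofNat 151),(14,.negSucc 21),(15,.negSucc 15),(16,.negSucc 29),(17,.ofNat 121),(18,.ofNat 8),(19,.negSucc 6)]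
set_option maxHeartbeats 0 in
set_option maxRecDepth 100000 in
theorem hcb14 : chkComb 2 16 rowsF 0 14 (0) cb14 = true := by decide +kernel
set_option maxRecDepth 100000 in
/-- A combination. -/
def cb15 : List (ℕ × ℤ) := [(0,.ofNat 1),(1,.ofNat 3),(2,.ofNat 37),(3,.negSucc 32),(4,.ofNat 3),(5,.ofNat 20),(6,.ofNat 5),(7,.ofNat 17),(8,.negSucc 22),(9,.ofNat 40),(10,.negSucc 25),(11,.negSucc 20),(12,.negSucc 0),(13,.negSucc 15),(14,.ofNat 3),(15,.ofNat 3),(16,.ofNat 6),(17,.negSucc 17),(18,.negSucc 0),(19,.ofNat 2)]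
set_option maxHeartbeats 0 in
set_option maxRecDepth 100000 in
theorem hcb15 : chkComb 2 16 rowsF 0 15 (0) cb15 = true := by decide +kernel

theorem hcert : ∀ q, q < 16 → ∃ (a : ℤ) (L : List (ℕ × ℤ)), chkComb 2 16 rowsF 0 q a L = true ∧ (q = 0 → a = 1 - ((1 : ℕ) : ℤ)) := by
  intro q hq
  interval_cases q
  · exact ⟨0, cb0, hcb0, by norm_num⟩
  · exact ⟨0, cb1, hcb1, by norm_num⟩
  · exact ⟨0, cb2, hcb2, by norm_num⟩
  · exact ⟨0, cb3, hcb3, by norm_num⟩
  · exact ⟨0, cb4, hcb4, by norm_num⟩
  · exact ⟨0, cb5, hcb5, by norm_num⟩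
  · exact ⟨0, cb6, hcb6, by norm_num⟩
  · exact ⟨0, cb7, hcb7, by norm_num⟩
  · exact ⟨0, cb8, hcb8, by norm_num⟩
  · exact ⟨0, cb9, hcb9, by norm_num⟩
  · exact ⟨0, cb10, hcb10, by norm_num⟩
  · exact ⟨0, cb11, hcb11, by norm_num⟩
  · exact ⟨0, cb12, hcb12, by norm_num⟩
  · exact ⟨0, cb13, hcb13, by norm_num⟩
  · exact ⟨0, cb14, hcb14, by norm_num⟩
  · exact ⟨0, cb15, hcb15, by norm_num⟩


end Cfsg.Agent.Lib.KnownSimple.MultM.U33G
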